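import Cfsg.Agent.H84.SR.Even

/-!
# TEAM SR (S4971): the simple orthogonal groups of dimension `4 m` in characteristic two
-/

set_option autoImplicit false
set_option linter.unusedSectionVars false

namespace Cfsg.Agent.H84.SREven

open Module QuadraticMap Cfsg
open Cfsg.Agent.LieClassical.OrthCore Cfsg.Agent.LieClassical.OrthForms Cfsg.Agent.LieClassical.OrthFinite
open Cfsg.Agent.H892.FSUni
open Cfsg.Agent.H646.FSGlue (fxd mem_ker_sub_id)
open Cfsg.Agent.H646.FSOmega (mem_commutator)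
open Cfsg.Agent.H955 hiding cyc NdOn
open Cfsg.Agent.H721.SR (SR RR)

universe u v

/-- **the inverting involution**, `dim V = 2 n` -/
theorem exists_inv {F : Type u} [Field F] [Finite F] [CharP F 2] (hP : Pieces.{u, v} F) {V : Type v}
    [AddCommGroup V] [Module F V] [FiniteDimensional F V] {Q : QuadraticForm F V} (hQ : Nondeg Q) {n : ℕ}
    (hn : finrank F V = 2 * n) {g : V ≃ₗ[F] V} (hg : g ∈ O Q) :
    ∃ h ∈ O Q, h * h = 1 ∧ h * g * h⁻¹ = g⁻¹ ∧
      finrank F (LinearMap.ker ((h : V →ₗ[F] V) - LinearMap.id)) = n ∧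
      finrank F (LinearMap.range ((h : V →ₗ[F] V) - LinearMap.id)) = n := by
  obtain ⟨h, hO, h2, hinv, hd⟩ := good_all hP hQ hg
  have h3 : finrank F (LinearMap.ker ((h : V →ₗ[F] V) - LinearMap.id)) = n := by
    have h4 : fixS h = LinearMap.ker ((h : V →ₗ[F] V) - LinearMap.id) := rfl
    rw [h4] at hd
    omega
  refine ⟨h, hO, h2, ?_, h3, ?_⟩
  · rw [hinv, mul_assoc, mul_inv_cancel, mul_one]
  · have h5 := LinearMap.finrank_range_add_finrank_ker ((h : V →ₗ[F] V) - LinearMap.id)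
    omega

section Matrix

variable {F : Type u} [Field F] [Finite F] [CharP F 2] {ι : Type} [Fintype ι] [DecidableEq ι]
  (Q : QuadraticForm F (ι → F))

theorem sr_omega (hP : Pieces.{u, u} F) (hQ : Nondeg Q) {m : ℕ} (hm : 2 ≤ m) (hι : Fintype.card ι = 4 * m)
    (g : commutator (Cfsg.isometryGroup F ⇑Q)) : SR g := by
  have hn : finrank F (ι → F) = 2 * (2 * m) := by
    rw [Module.finrank_fintype_fun_eq_card, hι]
    ring
  obtain ⟨h, hO, h2, hinv, hfx, -⟩ := exists_inv hP hQ hn (isometryEquiv Q g).2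
  let H : Cfsg.isometryGroup F ⇑Q := (isometryEquiv Q).symm ⟨h, hO⟩
  have hH : isometryEquiv Q H = ⟨h, hO⟩ := (isometryEquiv Q).apply_symm_apply _
  have hH0 : H * H = 1 := by
    apply (isometryEquiv Q).injective
    rw [map_mul, map_one, hH]
    exact Subtype.ext h2
  have hH1 : H * (g : Cfsg.isometryGroup F ⇑Q) * H⁻¹ = (g : Cfsg.isometryGroup F ⇑Q)⁻¹ := by
    apply (isometryEquiv Q).injective
    rw [map_mul, map_mul, map_inv, map_inv, hH]
    exact Subtype.ext hinv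
  have hH2 : H ∈ commutator (Cfsg.isometryGroup F ⇑Q) := by
    refine mem_commutator Q hQ hm hι H ?_
    rw [hH]
    show Even (fxd h)
    rw [show fxd h = 2 * m from hfx]
    exact even_two_mul m
  exact ⟨⟨H, hH2⟩, Subtype.ext hH0, Subtype.ext hH1⟩

end Matrix

/-- elements of the quotient by the centre -/
theorem sr_quot {G : Type*} [Group G] (h : ∀ g : G, SR g) (x : G ⧸ Subgroup.center G) : SR x := by
  obtain ⟨g, rfl⟩ := QuotientGroup.mk'_surjective (Subgroup.center G) x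
  exact (h g).map (QuotientGroup.mk' (Subgroup.center G))

variable {F : Type u} [Field F] [Finite F] [CharP F 2]

/-- **`Ω⁺_{4m}(q)`, `q` even** -/
theorem sr_omega_plus (hP : Pieces.{u, u} F) {m : ℕ} (hm : 2 ≤ m) (g : Cfsg.Omega F (Cfsg.quadFormPlus (2 * m) F)) :
    SR g := by
  revert g
  rw [← coe_plusForm]
  intro g
  refine sr_omega (plusForm (2 * m) F) hP (nondeg_plusForm (2 * m) F) hm ?_ g
  rw [Fintype.card_sum, Fintype.card_fin]
  ring

/-- **`Ω⁻_{4m}(q)`, `q` even** -/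
theorem sr_omega_minus (hP : Pieces.{u, u} F) {m : ℕ} (hm : 2 ≤ m) {a b : F}
    (hab : ∀ z₁ z₂ : F, z₁ ^ 2 + a * z₁ * z₂ + b * z₂ ^ 2 = 0 → z₁ = 0 ∧ z₂ = 0)
    (g : Cfsg.Omega F (Cfsg.quadFormMinus (2 * m - 1) F a b)) : SR g := by
  revert g
  rw [← coe_minusForm]
  intro g
  refine sr_omega (minusForm (2 * m - 1) F a b) hP (nondeg_minusForm (2 * m - 1) F a b hab) hm ?_ g
  rw [Fintype.card_sum, Fintype.card_sum, Fintype.card_fin, Fintype.card_fin]
  omega

/-- **`PΩ⁺_{4m}(q)`, `q` even** -/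
theorem sr_pomega_plus (hP : Pieces.{u, u} F) {m : ℕ} (hm : 2 ≤ m)
    (x : Cfsg.POmega F (Cfsg.quadFormPlus (2 * m) F)) : SR x :=
  sr_quot (sr_omega_plus hP hm) x

/-- **`PΩ⁻_{4m}(q)`, `q` even** -/
theorem sr_pomega_minus (hP : Pieces.{u, u} F) {m : ℕ} (hm : 2 ≤ m) {a b : F}
    (hab : ∀ z₁ z₂ : F, z₁ ^ 2 + a * z₁ * z₂ + b * z₂ ^ 2 = 0 → z₁ = 0 ∧ z₂ = 0)
    (x : Cfsg.POmega F (Cfsg.quadFormMinus (2 * m - 1) F a b)) : SR x :=
  sr_quot (sr_omega_minus hP hm hab) x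

end Cfsg.Agent.H84.SREven
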