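import Cfsg.Agent.H84.SR.EvenPieces
import Cfsg.Agent.H84.SR.EvenRows
import Cfsg.Agent.H807.SR.Tool
import Cfsg.Agent.H559.SR.PieceB
import Cfsg.Agent.H686.SR.Dye

/-!
# TEAM SR (S4971): the orthogonal and symplectic groups in characteristic two, no hypotheses
-/

set_option autoImplicit false

namespace Cfsg.Agent.H84.SREven

open Module QuadraticMap Cfsg
open Cfsg.Agent.LieClassical.OrthCore
open Cfsg.Agent.H721.SR (SR RR)

universe u v

/-- THEOREM PIECE in characteristic two -/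
theorem pieces (F : Type u) [Field F] [CharP F 2] : Pieces.{u, v} F := by
  refine pieces_of ?_ ?_
  · intro V _ _ _ B g hS f hf hd hna
    obtain ⟨k, v, w, h⟩ := Cfsg.Agent.H807.SR.exists_ppiece hS hf hd hna
    exact ⟨f, k, v, w, h⟩
  · intro V _ _ _ B g hS f hf hd hr h1 h2
    obtain ⟨k, v, h⟩ := Cfsg.Agent.H559.SR.exists_cpiece hS hf hd hr h1 h2
    exact ⟨f, k, v, h⟩

/-- **Every isometry of a nondegenerate quadratic form over a finite field of characteristic two is inverted by an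
isometry of order at most two with a fixed space of half the dimension.** -/
theorem good {F : Type u} [Field F] [Finite F] [CharP F 2] {V : Type v} [AddCommGroup V] [Module F V]
    [FiniteDimensional F V] {Q : QuadraticForm F V} (hQ : Nondeg Q) {g : V ≃ₗ[F] V} (hg : g ∈ O Q) :
    Cfsg.Agent.H892.FSUni.Good Q g := good_all (pieces F) hQ hg

theorem exists_inv' {F : Type u} [Field F] [Finite F] [CharP F 2] {V : Type v}
    [AddCommGroup V] [Module F V] [FiniteDimensional F V] {Q : QuadraticForm F V} (hQ : Nondeg Q) {n : ℕ}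
    (hn : finrank F V = 2 * n) {g : V ≃ₗ[F] V} (hg : g ∈ O Q) :
    ∃ h ∈ O Q, h * h = 1 ∧ h * g * h⁻¹ = g⁻¹ ∧
      finrank F (LinearMap.ker ((h : V →ₗ[F] V) - LinearMap.id)) = n ∧
      finrank F (LinearMap.range ((h : V →ₗ[F] V) - LinearMap.id)) = n := exists_inv (pieces F) hQ hn hg

variable {F : Type u} [Field F] [Finite F] [CharP F 2]

/-- the orthogonal input of helper686 -/
theorem inp (m : ℕ) : Cfsg.Agent.H686.SR.Dye.Inp F m := by
  intro Q hQ g hg
  obtain ⟨h, hO, h2, hinv, -⟩ := good (Q := Q) hQ hg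
  exact ⟨h, hO, h2, by rw [hinv, mul_assoc, mul_inv_cancel, mul_one]⟩

/-- **`PΩ⁺_{4m}(q)`, `q` even** -/
theorem sr_plus {m : ℕ} (hm : 2 ≤ m) (x : Cfsg.POmega F (Cfsg.quadFormPlus (2 * m) F)) : SR x :=
  sr_pomega_plus (pieces F) hm x

/-- **`PΩ⁻_{4m}(q)`, `q` even** -/
theorem sr_minus {m : ℕ} (hm : 2 ≤ m) {a b : F}
    (hab : ∀ z₁ z₂ : F, z₁ ^ 2 + a * z₁ * z₂ + b * z₂ ^ 2 = 0 → z₁ = 0 ∧ z₂ = 0)
    (x : Cfsg.POmega F (Cfsg.quadFormMinus (2 * m - 1) F a b)) : SR x :=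
  sr_pomega_minus (pieces F) hm hab x

/-- **`PSp_{2m}(q)`, `q` even** -/
theorem sr_psp {m : ℕ} (x : Cfsg.PSp m F) : SR x := Cfsg.Agent.H686.SR.Dye.sr_psp_two (inp m) x

end Cfsg.Agent.H84.SREven
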