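import Cfsg.Agent.H721.SR.Orth
import Cfsg.Agent.H892.FSUniC
import Cfsg.Agent.H646.FSOmega

/-!
# TEAM SR (S4971): orthogonal groups in characteristic two

`good_all` : every `g ∈ O Q` is inverted by an isometry of order at most two with a fixed space of half the dimension
(`H892.FSUni.Good`), from THEOREM PIECE in characteristic two (`Pieces F`).
-/

set_option autoImplicit false
set_option linter.unusedSectionVars false

namespace Cfsg.Agent.H84.SREven

open Module QuadraticMap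
open Cfsg.Agent.LieClassical.OrthCore Cfsg.Agent.H892.FSUni
open Cfsg.Agent.H955 hiding cyc NdOn
open Cfsg.Agent.H721.SR (St cyc CPiece PPiece Iso0 Ann)

universe u v

/-- THEOREM PIECE in characteristic two, for isometries without fixed vectors -/
def Pieces (F : Type u) [Field F] : Prop :=
  ∀ (V : Type v) [AddCommGroup V] [Module F V] [FiniteDimensional F V] (B : V →ₗ[F] V →ₗ[F] F) (g : V ≃ₗ[F] V),
    St B 1 g → (∀ v, g v = v → v = 0) → (∃ v : V, v ≠ 0) →
    (∃ (f : Polynomial F) (k : ℕ) (v : V), CPiece B g f k v) ∨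
      (∃ (f : Polynomial F) (k : ℕ) (v w : V), PPiece B g f k v w)

variable {F : Type u} [Field F] {V : Type v} [AddCommGroup V] [Module F V] {Q : QuadraticForm F V}

/-! ### the cyclic subspaces -/

theorem mem_cyc (g : V ≃ₗ[F] V) (v : V) (i : ℤ) : (g ^ i) v ∈ cyc g v := Submodule.subset_span ⟨i, rfl⟩

theorem self_mem_cyc (g : V ≃ₗ[F] V) (v : V) : v ∈ cyc g v := mem_cyc g v 0

theorem cyc_inv [CharP F 2] (g : V ≃ₗ[F] V) (v : V) : Inv g (cyc g v) := span_zpow_inv g v

section Restr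

variable [CharP F 2] [FiniteDimensional F V]

theorem coe_resT_zpow (T : V ≃ₗ[F] V) (W : Submodule F V) (h : Inv T W) (n : ℤ) (w : W) :
    ((resT T W h ^ n) w : V) = (T ^ n) (w : V) := by
  obtain ⟨n, rfl | rfl⟩ := n.eq_nat_or_neg
  · rw [zpow_natCast, zpow_natCast]
    exact coe_resT_pow T W h n w
  · rw [zpow_neg, zpow_neg, zpow_natCast, zpow_natCast]
    have h1 : (resT T W h ^ n) (((resT T W h ^ n)⁻¹) w) = w := LinearEquiv.apply_symm_apply _ _
    have h2 : (T ^ n) ((((resT T W h ^ n)⁻¹) w : W) : V) = w :=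
      (coe_resT_pow T W h n _).symm.trans (congrArg Subtype.val h1)
    have h3 : (T ^ n) (((T ^ n)⁻¹) (w : V)) = (w : V) := LinearEquiv.apply_symm_apply _ _
    exact (T ^ n).injective (h2.trans h3.symm)

theorem coe_mem_cyc {g : V ≃ₗ[F] V} {W : Submodule F V} (h : Inv g W) (v : W) {x : W}
    (hx : x ∈ cyc (resT g W h) v) : (x : V) ∈ cyc g (v : V) := by
  have h1 : cyc (resT g W h) v ≤ (cyc g (v : V)).comap W.subtype := by
    rw [cyc, Submodule.span_le]
    rintro _ ⟨i, rfl⟩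
    show (((resT g W h ^ i) v : W) : V) ∈ cyc g (v : V)
    rw [coe_resT_zpow]
    exact mem_cyc g _ i
  exact h1 hx

/-- restriction of a vector generating `W` -/
theorem cyc_resT_top {g : V ≃ₗ[F] V} {W : Submodule F V} (h : Inv g W) (v : W) (hW : cyc g (v : V) = W) :
    cyc (resT g W h) v = ⊤ := by
  apply span_range_subtype
  simp only [coe_resT_zpow]
  exact hW

theorem cyc_sup_resT_top {g : V ≃ₗ[F] V} {W : Submodule F V} (h : Inv g W) (v w : W)
    (hW : cyc g (v : V) ⊔ cyc g (w : V) = W) : cyc (resT g W h) v ⊔ cyc (resT g W h) w = ⊤ := by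
  rw [cyc, cyc, ← Submodule.span_union, ← Set.Sum.elim_range]
  apply span_range_subtype
  refine Eq.trans ?_ hW
  rw [cyc, cyc, ← Submodule.span_union, ← Set.Sum.elim_range]
  congr 1
  congr 1
  funext s
  cases s
  · exact coe_resT_zpow g W h _ v
  · exact coe_resT_zpow g W h _ w

end Restr

section Two

variable [CharP F 2] [FiniteDimensional F V]

theorem exists_nl {g : V ≃ₗ[F] V} (hfree : ∀ v, g v = v → v = 0) {W : Submodule F V} (hW : Inv g W) {x : V}
    (hx : x ∈ W) : ∃ y ∈ W, nl g y = x := by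
  have h1 : ∀ y ∈ W, nl g y ∈ W := fun y hy => by
    rw [nl_apply]
    exact W.add_mem (hW y hy) hy
  let f : W →ₗ[F] W := (nl g).restrict h1
  have hf : Function.Injective f := by
    rw [← LinearMap.ker_eq_bot, LinearMap.ker_eq_bot']
    intro y hy
    have h2 : nl g (y : V) = 0 := congrArg Subtype.val hy
    rw [nl_apply] at h2
    exact Subtype.ext (hfree _ (eq_of_add F h2))
  obtain ⟨y, hy⟩ := (LinearMap.injective_iff_surjective.1 hf) ⟨x, hx⟩
  exact ⟨y, y.2, congrArg Subtype.val hy⟩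

/-- a totally isotropic invariant subspace is totally singular if there are no fixed vectors -/
theorem sing_of_iso {g : V ≃ₗ[F] V} (hg : g ∈ O Q) (hfree : ∀ v, g v = v → v = 0) {W : Submodule F V}
    (hW : Inv g W) (hiso : ∀ x ∈ W, ∀ y ∈ W, polar Q x y = 0) {x : V} (hx : x ∈ W) : Q x = 0 := by
  obtain ⟨y, hy, rfl⟩ := exists_nl hfree hW hx
  rw [Q_nl hg]
  refine hiso y hy _ ?_
  rw [nl_apply]
  exact W.add_mem (hW y hy) hy

/-- **pair pieces** -/
theorem good_pair (hQ : Nondeg Q) {g : V ≃ₗ[F] V} (hg : g ∈ O Q) (hfree : ∀ v, g v = v → v = 0) (v w : V)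
    (hv : ∀ x ∈ cyc g v, ∀ y ∈ cyc g v, polar Q x y = 0) (hw : ∀ x ∈ cyc g w, ∀ y ∈ cyc g w, polar Q x y = 0)
    (hs : cyc g v ⊔ cyc g w = ⊤) : Good Q g := by
  classical
  let X : ℤ ⊕ ℤ → V := Sum.elim (fun i => (g ^ i) v) (fun i => (g ^ i) w)
  let Y : ℤ ⊕ ℤ → V := Sum.elim (fun i => (g ^ (-i)) w) (fun i => (g ^ (-i)) v)
  have hneg : ∀ u : V, Set.range (fun i : ℤ => (g ^ (-i)) u) = Set.range (fun i : ℤ => (g ^ i) u) := by
    intro u
    ext x
    constructor
    · rintro ⟨i, rfl⟩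
      exact ⟨-i, rfl⟩
    · rintro ⟨i, rfl⟩
      exact ⟨-i, by show (g ^ (- -i)) u = (g ^ i) u; rw [neg_neg]⟩
  have hX : Submodule.span F (Set.range X) = ⊤ := by
    rw [Set.Sum.elim_range, Submodule.span_union]
    exact hs
  have hY : Submodule.span F (Set.range Y) = ⊤ := by
    rw [Set.Sum.elim_range, hneg, hneg, Submodule.span_union, sup_comm]
    exact hs
  have hQv : ∀ x ∈ cyc g v, Q x = 0 := fun x hx => sing_of_iso hg hfree (cyc_inv g v) hv hx
  have hQw : ∀ x ∈ cyc g w, Q x = 0 := fun x hx => sing_of_iso hg hfree (cyc_inv g w) hw hx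
  obtain ⟨h, hh, hhX⟩ := exists_isometry hQ X Y hX hY
    (by
      rintro (i | i)
      · show Q ((g ^ i) v) = Q ((g ^ (-i)) w)
        rw [hQv _ (mem_cyc g v i), hQw _ (mem_cyc g w _)]
      · show Q ((g ^ i) w) = Q ((g ^ (-i)) v)
        rw [hQw _ (mem_cyc g w i), hQv _ (mem_cyc g v _)])
    (by
      rintro (i | i) (j | j)
      · show polar Q ((g ^ i) v) ((g ^ j) v) = polar Q ((g ^ (-i)) w) ((g ^ (-j)) w)
        rw [hv _ (mem_cyc g v i) _ (mem_cyc g v j), hw _ (mem_cyc g w _) _ (mem_cyc g w _)]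
      · show polar Q ((g ^ i) v) ((g ^ j) w) = polar Q ((g ^ (-i)) w) ((g ^ (-j)) v)
        rw [polar_zpow hg, polar_zpow hg, polar_zpow_symm hg]
        congr 3
        ring
      · show polar Q ((g ^ i) w) ((g ^ j) v) = polar Q ((g ^ (-i)) v) ((g ^ (-j)) w)
        rw [polar_zpow hg, polar_zpow hg, polar_zpow_symm hg]
        congr 3
        ring
      · show polar Q ((g ^ i) w) ((g ^ j) w) = polar Q ((g ^ (-i)) v) ((g ^ (-j)) v)
        rw [hw _ (mem_cyc g w i) _ (mem_cyc g w j), hv _ (mem_cyc g v _) _ (mem_cyc g v _)])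
  have hhv : ∀ i : ℤ, h ((g ^ i) v) = (g ^ (-i)) w := fun i => hhX (Sum.inl i)
  have hhw : ∀ i : ℤ, h ((g ^ i) w) = (g ^ (-i)) v := fun i => hhX (Sum.inr i)
  have hext : ∀ a b : V ≃ₗ[F] V, (∀ i : ℤ, a ((g ^ i) v) = b ((g ^ i) v)) → (∀ i : ℤ, a ((g ^ i) w) = b ((g ^ i) w)) →
      a = b := by
    intro a b h1 h2
    apply LinearEquiv.toLinearMap_injective
    apply LinearMap.ext_on_range hX
    rintro (i | i)
    · exact h1 i
    · exact h2 i
  have hinvol : h * h = 1 := by
    apply hext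
    · intro i
      rw [LinearEquiv.mul_apply, hhv, hhw, neg_neg]
      rfl
    · intro i
      rw [LinearEquiv.mul_apply, hhw, hhv, neg_neg]
      rfl
  have hgz : ∀ (i : ℤ) (u : V), g ((g ^ i) u) = (g ^ (i + 1)) u := by
    intro i u
    rw [add_comm, zpow_add, zpow_one, LinearEquiv.mul_apply]
  have hgz' : ∀ (i : ℤ) (u : V), g⁻¹ ((g ^ (-i)) u) = (g ^ (-(i + 1))) u := by
    intro i u
    rw [neg_add_rev, zpow_add, zpow_neg_one, LinearEquiv.mul_apply]
  refine ⟨h, hh, hinvol, ?_, ?_⟩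
  · apply hext
    · intro i
      rw [LinearEquiv.mul_apply, LinearEquiv.mul_apply, hhv, hgz, hhv, hgz']
    · intro i
      rw [LinearEquiv.mul_apply, LinearEquiv.mul_apply, hhw, hgz, hhw, hgz']
  · refine finrank_fixS_of_swap hinvol (W := cyc g v) ?_ ?_
    · rw [eq_top_iff, ← hs]
      refine sup_le_sup le_rfl ?_
      rw [cyc, Submodule.span_le]
      rintro _ ⟨i, rfl⟩
      refine ⟨(g ^ (-i)) v, mem_cyc g v _, ?_⟩
      show h ((g ^ (-i)) v) = (g ^ i) w
      rw [hhv, neg_neg]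
    · have h1 := finrank_add_perp hQ (cyc g v)
      have h2 : cyc g v ≤ perp Q (cyc g v) := fun x hx y hy => hv y hy x hx
      have h3 := Submodule.finrank_mono h2
      omega

theorem nl_pow_mem_span (N : Module.End F V) (v : V) :
    (N ^ (finrank F V)) v ∈ Submodule.span F (Set.range fun i : Fin (finrank F V) => (N ^ (i : ℕ)) v) := by
  have h1 := LinearMap.aeval_self_charpoly N
  rw [(LinearMap.charpoly_monic N).as_sum, LinearMap.charpoly_natDegree, map_add, map_sum, map_pow,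
    Polynomial.aeval_X] at h1
  have h2 := LinearMap.congr_fun h1 v
  rw [LinearMap.add_apply, LinearMap.zero_apply, LinearMap.sum_apply] at h2
  rw [eq_neg_of_add_eq_zero_left h2]
  refine Submodule.neg_mem _ (Submodule.sum_mem _ fun i hi => ?_)
  rw [map_mul, Polynomial.aeval_C, map_pow, Polynomial.aeval_X, Module.End.mul_apply, Module.algebraMap_end_apply]
  exact Submodule.smul_mem _ _ (Submodule.subset_span ⟨⟨i, Finset.mem_range.1 hi⟩, rfl⟩)

/-- **cyclic pieces** -/
theorem good_cyc (hQ : Nondeg Q) {g : V ≃ₗ[F] V} (hg : g ∈ O Q) (v : V) (hs : cyc g v = ⊤) : Good Q g := by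
  obtain ⟨n, hn⟩ := Cfsg.Agent.H646.FSGlue.even_finrank_of_nondeg hQ
  refine good_cyclic hQ hg hn v ?_
  rw [← hn]
  set S := Submodule.span F (Set.range fun i : Fin (finrank F V) => (nl g ^ (i : ℕ)) v) with hS
  rcases Nat.eq_zero_or_pos (finrank F V) with h0 | h0
  · have : Subsingleton V := Module.finrank_zero_iff.1 h0
    exact Subsingleton.elim _ _
  have hnl : ∀ x ∈ S, nl g x ∈ S := by
    intro x hx
    have h1 : S ≤ S.comap (nl g) := by
      rw [hS, Submodule.span_le]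
      rintro _ ⟨i, rfl⟩
      show nl g ((nl g ^ (i : ℕ)) v) ∈ S
      rw [← Module.End.mul_apply, ← pow_succ']
      rcases Nat.lt_or_ge ((i : ℕ) + 1) (finrank F V) with h | h
      · exact Submodule.subset_span ⟨⟨(i : ℕ) + 1, h⟩, rfl⟩
      · have h2 : (i : ℕ) + 1 = finrank F V := by have := i.2; omega
        rw [h2]
        exact nl_pow_mem_span (nl g) v
    exact h1 hx
  have hgS : ∀ x ∈ S, g x ∈ S := fun x hx => by
    rw [map_eq]
    exact S.add_mem (hnl x hx) hx
  rw [eq_top_iff, ← hs, cyc, Submodule.span_le]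
  rintro _ ⟨i, rfl⟩
  exact zpow_mem_of_inv hgS i (Submodule.subset_span ⟨⟨0, h0⟩, rfl⟩)

/-! ### pieces of `V` -/

theorem ne_zero_of_ann {g : V ≃ₗ[F] V} {v : V} {f : Polynomial F} {k : ℕ} (hf : Irreducible f) (hk : 0 < k)
    (h : Ann g v (f ^ k)) : v ≠ 0 := by
  rintro rfl
  have h1 : f ^ k ∣ 1 := (h 1).1 (map_zero _)
  exact hf.not_isUnit (isUnit_of_dvd_one ((dvd_pow_self f hk.ne').trans h1))

theorem finrank_pos_of_mem {W : Submodule F V} {v : V} (hv : v ∈ W) (h0 : v ≠ 0) : 0 < finrank F W := by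
  have : Nontrivial W := ⟨⟨⟨v, hv⟩, 0, fun h => h0 (congrArg Subtype.val h)⟩⟩
  exact Module.finrank_pos

theorem free_resT {g : V ≃ₗ[F] V} (hfree : ∀ v, g v = v → v = 0) {W : Submodule F V} (h : Inv g W) (v : W)
    (hv : resT g W h v = v) : v = 0 :=
  Subtype.ext (hfree v (congrArg Subtype.val hv))

theorem good_cpiece {g : V ≃ₗ[F] V} (hg : g ∈ O Q) {f : Polynomial F} {k : ℕ} {v : V}
    (h : CPiece (polarBilin Q) g f k v) :
    ∃ W : Submodule F V, 0 < finrank F W ∧ Nondeg (res Q W) ∧ ∃ hW : Inv g W, Good (res Q W) (resT g W hW) := by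
  have hnd : Nondeg (res Q (cyc g v)) := nondeg_res_iff.2 h.nd
  exact ⟨cyc g v, finrank_pos_of_mem (self_mem_cyc g v) (ne_zero_of_ann h.irr h.pos h.ann), hnd, cyc_inv g v,
    good_cyc hnd (resT_mem_O hg (cyc_inv g v)) ⟨v, self_mem_cyc g v⟩ (cyc_resT_top (cyc_inv g v) _ rfl)⟩

theorem good_ppiece {g : V ≃ₗ[F] V} (hg : g ∈ O Q) (hfree : ∀ v, g v = v → v = 0) {f : Polynomial F} {k : ℕ}
    {v w : V} (h : PPiece (polarBilin Q) g f k v w) :
    ∃ W : Submodule F V, 0 < finrank F W ∧ Nondeg (res Q W) ∧ ∃ hW : Inv g W, Good (res Q W) (resT g W hW) := by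
  have hnd : Nondeg (res Q (cyc g v ⊔ cyc g w)) := nondeg_res_iff.2 h.nd
  have hv : v ∈ cyc g v ⊔ cyc g w := Submodule.mem_sup_left (self_mem_cyc g v)
  have hw : w ∈ cyc g v ⊔ cyc g w := Submodule.mem_sup_right (self_mem_cyc g w)
  have hinv : Inv g (cyc g v ⊔ cyc g w) := (cyc_inv g v).sup (cyc_inv g w)
  refine ⟨cyc g v ⊔ cyc g w, finrank_pos_of_mem hv (ne_zero_of_ann h.irr h.pos h.annv), hnd, hinv, ?_⟩
  refine good_pair hnd (resT_mem_O hg hinv) (free_resT hfree hinv) ⟨v, hv⟩ ⟨w, hw⟩ ?_ ?_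
    (cyc_sup_resT_top hinv ⟨v, hv⟩ ⟨w, hw⟩ rfl)
  · intro x hx y hy
    exact h.isov _ (coe_mem_cyc hinv ⟨v, hv⟩ hx) _ (coe_mem_cyc hinv ⟨v, hv⟩ hy)
  · intro x hx y hy
    exact h.isow _ (coe_mem_cyc hinv ⟨w, hw⟩ hx) _ (coe_mem_cyc hinv ⟨w, hw⟩ hy)

theorem st_polar (hQ : Nondeg Q) {g : V ≃ₗ[F] V} (hg : g ∈ O Q) : St (polarBilin Q) 1 g where
  eps := Or.inl rfl
  symm x y := by
    rw [one_mul]
    exact polar_comm Q x y
  nondeg x hx := hQ x hx
  isom x y := polar_map hg x y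

end Two

/-! ### The induction -/

theorem good_subsingleton [CharP F 2] [FiniteDimensional F V] (h : finrank F V = 0) (g : V ≃ₗ[F] V) : Good Q g := by
  have hs : Subsingleton V := Module.finrank_zero_iff.1 h
  have hall : ∀ a b : V ≃ₗ[F] V, a = b := fun a b => by
    ext x
    exact Subsingleton.elim _ _
  refine ⟨1, one_mem _, hall _ _, hall _ _, ?_⟩
  have := Submodule.finrank_le (fixS (1 : V ≃ₗ[F] V))
  omega

/-- **isometries without fixed vectors** -/
theorem good_of_free [CharP F 2] (hP : Pieces.{u, v} F) (d : ℕ) : ∀ {V : Type v} [AddCommGroup V] [Module F V]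
    [FiniteDimensional F V] (Q : QuadraticForm F V), Nondeg Q → finrank F V = d →
    ∀ (g : V ≃ₗ[F] V), g ∈ O Q → (∀ v, g v = v → v = 0) → Good Q g := by
  induction d using Nat.strong_induction_on with
  | _ d ih =>
    intro V _ _ _ Q hQ hd g hg hfree
    rcases Nat.eq_zero_or_pos d with h0 | h0
    · subst h0
      exact good_subsingleton hd g
    · have hnt : Nontrivial V := (Module.finrank_pos_iff (R := F)).1 (by omega)
      obtain ⟨W, hW0, hWn, hWi, hWg⟩ : ∃ W : Submodule F V, 0 < finrank F W ∧ Nondeg (res Q W) ∧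
          ∃ hW : Inv g W, Good (res Q W) (resT g W hW) := by
        rcases hP V (polarBilin Q) g (st_polar hQ hg) hfree (exists_ne 0) with ⟨f, k, v, h⟩ | ⟨f, k, v, w, h⟩
        · exact good_cpiece hg h
        · exact good_ppiece hg hfree h
      have hpi : Inv g (perp Q W) := inv_perp hg hWi
      have hfr := finrank_add_perp hQ W
      refine good_glue hWn hWi hpi hWg ?_
      exact ih (finrank F (perp Q W)) (by omega) (res Q (perp Q W)) (nondeg_perp hQ hWn) rfl
        (resT g (perp Q W) hpi) (resT_mem_O hg hpi) (free_resT hfree hpi)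

/-- the generalised eigenspace of `1` is orthogonal to the image of the nilpotent part -/
theorem polar_nl_pow [CharP F 2] {g : V ≃ₗ[F] V} (hg : g ∈ O Q) (m : ℕ) :
    ∀ x y : V, (nl g ^ m) x = 0 → polar Q x ((nl g ^ m) y) = 0 := by
  induction m with
  | zero =>
    intro x y hx
    have : x = 0 := hx
    rw [this, polar_zero_left]
  | succ m ih =>
    intro x y hx
    have h1 : (nl g ^ (m + 1)) y = nl g ((nl g ^ m) y) := by rw [pow_succ', Module.End.mul_apply]
    have h2 : g ((nl g ^ m) y) = (nl g ^ m) (g y) := by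
      rw [map_eq g ((nl g ^ m) y), map_eq g y, map_add, ← Module.End.mul_apply, ← Module.End.mul_apply, ← pow_succ,
        ← pow_succ']
    rw [h1, polar_nl hg, ← polar_add_right, add_comm ((nl g ^ m) y), ← map_eq, h2]
    refine ih _ _ ?_
    rw [← Module.End.mul_apply, ← pow_succ, hx]

/-- **every isometry** -/
theorem good_all [Finite F] [CharP F 2] (hP : Pieces.{u, v} F) {V : Type v} [AddCommGroup V] [Module F V]
    [FiniteDimensional F V] {Q : QuadraticForm F V} (hQ : Nondeg Q) {g : V ≃ₗ[F] V} (hg : g ∈ O Q) : Good Q g := by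
  obtain ⟨m, hm, hm1⟩ := ((LinearMap.eventually_isCompl_ker_pow_range_pow (nl g)).and
    (Filter.eventually_ge_atTop 1)).exists
  set W := LinearMap.ker (nl g ^ m) with hWdef
  have hort : ∀ x ∈ W, ∀ y ∈ LinearMap.range (nl g ^ m), polar Q x y = 0 := by
    rintro x hx _ ⟨y, rfl⟩
    exact polar_nl_pow hg m x y hx
  have hWn : Nondeg (res Q W) := by
    rw [nondeg_res_iff]
    intro x hx hxy
    refine hQ x fun y => ?_
    have h1 : y ∈ W ⊔ LinearMap.range (nl g ^ m) := by rw [hm.sup_eq_top]; trivial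
    obtain ⟨a, ha, b, hb, rfl⟩ := Submodule.mem_sup.1 h1
    rw [polar_add_right, hxy a ha, hort x hx b hb, add_zero]
  have hcomm : ∀ x, (nl g ^ m) (g x) = g ((nl g ^ m) x) := by
    intro x
    rw [map_eq g ((nl g ^ m) x), map_eq g x, map_add, ← Module.End.mul_apply, ← Module.End.mul_apply, ← pow_succ,
        ← pow_succ']
  have hWi : Inv g W := by
    intro x hx
    rw [hWdef, LinearMap.mem_ker] at hx ⊢
    rw [hcomm, hx, map_zero]
  have hpi : Inv g (perp Q W) := inv_perp hg hWi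
  refine good_glue hWn hWi hpi ?_ ?_
  · refine good_of_nilpotent (finrank F W) (res Q W) hWn rfl _ (resT_mem_O hg hWi) ⟨m, ?_⟩
    ext x
    rw [coe_nl_resT hWi]
    exact x.2
  · refine good_of_free hP (finrank F (perp Q W)) (res Q (perp Q W)) (nondeg_perp hQ hWn) rfl
      (resT g (perp Q W) hpi) (resT_mem_O hg hpi) ?_
    intro v hv
    have h1 : g (v : V) = v := congrArg Subtype.val hv
    have h2 : nl g (v : V) = 0 := by rw [nl_apply, h1]; exact add_self' F _
    have h3 : (v : V) ∈ W := by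
      obtain ⟨j, rfl⟩ : ∃ j, m = j + 1 := ⟨m - 1, by omega⟩
      show (nl g ^ (j + 1)) (v : V) = 0
      rw [pow_succ, Module.End.mul_apply, h2, map_zero]
    exact Subtype.ext (nondeg_res_iff.1 hWn _ h3 fun y hy => by rw [polar_comm]; exact v.2 y hy)

end Cfsg.Agent.H84.SREven
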