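import Cfsg.Agent.H84.SR.Even

/-!
# TEAM SR (S4971): `Pieces F` from the two parts of THEOREM PIECE
-/

set_option autoImplicit false

namespace Cfsg.Agent.H84.SREven

open Module Polynomial
open Cfsg.Agent.H721.SR (St CPiece PPiece)

universe u v

/-- part (i): factors which are not self-reciprocal -/
def PieceA (F : Type u) [Field F] : Prop :=
  ∀ (V : Type v) [AddCommGroup V] [Module F V] [FiniteDimensional F V] (B : V →ₗ[F] V →ₗ[F] F) (g : V ≃ₗ[F] V),
    St B 1 g → ∀ f : F[X], Irreducible f → f ∣ minpoly F (g : V →ₗ[F] V) → ¬ Associated f f.reverse →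
    ∃ (f : F[X]) (k : ℕ) (v w : V), PPiece B g f k v w

/-- part (ii): self-reciprocal factors -/
def PieceB (F : Type u) [Field F] : Prop :=
  ∀ (V : Type v) [AddCommGroup V] [Module F V] [FiniteDimensional F V] (B : V →ₗ[F] V →ₗ[F] F) (g : V ≃ₗ[F] V),
    St B 1 g → ∀ f : F[X], Irreducible f → f ∣ minpoly F (g : V →ₗ[F] V) → Associated f f.reverse →
    ¬ Associated f (X - 1) → ¬ Associated f (X + 1) → ∃ (f : F[X]) (k : ℕ) (v : V), CPiece B g f k v

theorem exists_fixed_of_dvd {F : Type u} [Field F] {V : Type v} [AddCommGroup V] [Module F V]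
    [FiniteDimensional F V] (g : V ≃ₗ[F] V) (h : (X - 1 : F[X]) ∣ minpoly F (g : V →ₗ[F] V)) :
    ∃ v : V, v ≠ 0 ∧ g v = v := by
  have h1 : (minpoly F (g : V →ₗ[F] V)).IsRoot 1 := by
    rw [← dvd_iff_isRoot, C_1]
    exact h
  obtain ⟨v, hv⟩ := (Module.End.hasEigenvalue_of_isRoot h1).exists_hasEigenvector
  refine ⟨v, hv.2, ?_⟩
  have := hv.apply_eq_smul
  rwa [one_smul] at this

theorem pieces_of {F : Type u} [Field F] [CharP F 2] (hA : PieceA.{u, v} F) (hB : PieceB.{u, v} F) :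
    Pieces.{u, v} F := by
  intro V _ _ _ B g hS hfree hne
  obtain ⟨v0, hv0⟩ := hne
  have hnt : Nontrivial V := ⟨⟨v0, 0, hv0⟩⟩
  have hint : IsIntegral F (g : V →ₗ[F] V) := Algebra.IsIntegral.isIntegral _
  obtain ⟨f, hf, hfd⟩ := WfDvdMonoid.exists_irreducible_factor (minpoly.not_isUnit F (g : V →ₗ[F] V))
    (minpoly.ne_zero hint)
  have key : ¬ Associated f (X - 1) := by
    intro h
    obtain ⟨v, hv, hgv⟩ := exists_fixed_of_dvd g (h.symm.dvd.trans hfd)
    exact hv (hfree v hgv)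
  have h2 : (X - 1 : F[X]) = X + 1 := by
    rw [sub_eq_add_neg]
    congr 1
    exact CharTwo.neg_eq 1
  by_cases hr : Associated f f.reverse
  · exact Or.inl (hB V B g hS f hf hfd hr key (by rwa [← h2]))
  · exact Or.inr (hA V B g hS f hf hfd hr)

end Cfsg.Agent.H84.SREven
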